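import Cfsg.Agent.Lib.H6.U43M.Model2.ChkA
import Cfsg.Agent.Lib.H6.U43M.Model2.ChkB
import Cfsg.Agent.Lib.H6.U43M.Model2.ChkC
import Cfsg.Agent.Lib.H6.U43M.Cert.Lists
import Cfsg.Agent.Lib.H6.U33M.Cert.Lists

set_option autoImplicit false
set_option maxRecDepth 100000

/-! # The monomial model: summary (generated) -/

namespace Cfsg.Agent.Lib.H6.U43M.Model2

open Cfsg.Agent.Lib.H17.MonoModel Cfsg.Agent.Lib.H6.U43M

theorem range_ok : Range tabs 540 := by
  intro x p hp
  by_cases hx : x < 6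
  · interval_cases x
    · exact checkRangeM_sound _ _ _ range0 p hp
    · exact checkRangeM_sound _ _ _ range1 p hp
    · exact checkRangeM_sound _ _ _ range2 p hp
    · exact checkRangeM_sound _ _ _ range3 p hp
    · exact checkRangeM_sound _ _ _ range4 p hp
    · exact checkRangeM_sound _ _ _ range5 p hp
  · have : tabs x = 0 := by
      unfold tabs
      split <;> first | omega | rfl
    rw [this]
    have : lkM 0 p = 0 := by unfold lkM; simp
    rw [this]; norm_num

theorem pairs_ok : PairsOK tabs 540 := by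
  intro x hx
  interval_cases x
  · exact wchk15
  · exact wchk16
  · exact wchk17
  · exact wchk18
  · exact wchk19
  · exact wchk20

theorem exact_chk : ∀ w ∈ Cert.exactL, checkWordM (w.map tabs) 0 540 = true := by
  intro w hw
  simp only [Cert.exactL, List.mem_cons, List.not_mem_nil, or_false] at hw
  rcases hw with rfl | rfl | rfl | rfl | rfl | rfl | rfl | rfl | rfl | rfl | rfl | rfl | rfl | rfl | rfl
  · exact wchk0
  · exact wchk1
  · exact wchk2
  · exact wchk3
  · exact wchk4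
  · exact wchk5
  · exact wchk6
  · exact wchk7
  · exact wchk8
  · exact wchk9
  · exact wchk10
  · exact wchk11
  · exact wchk12
  · exact wchk13
  · exact wchk14

theorem central_chk : ∀ w ∈ Cert.symL ++ Cert.cenL, ∃ e, checkWordM (w.map tabs) e 540 = true := by
  intro w hw
  simp only [Cert.symL, Cert.cenL, List.cons_append, List.nil_append, List.mem_cons, List.not_mem_nil, or_false] at hw
  rcases hw with rfl | rfl | rfl | rfl | rfl | rfl | rfl | rfl | rfl | rfl | rfl | rfl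
  · exact ⟨_, wchk21⟩
  · exact ⟨_, wchk22⟩
  · exact ⟨_, wchk23⟩
  · exact ⟨_, wchk24⟩
  · exact ⟨_, wchk25⟩
  · exact ⟨_, wchk26⟩
  · exact ⟨_, wchk27⟩
  · exact ⟨_, wchk28⟩
  · exact ⟨_, wchk29⟩
  · exact ⟨_, wchk30⟩
  · exact ⟨_, wchk31⟩
  · exact ⟨_, wchk32⟩

theorem extra_chk : ∀ w ∈ Cfsg.Agent.Lib.H6.U33M.Cert.exactL ++ (Cfsg.Agent.Lib.H6.U33M.Cert.symL ++ Cfsg.Agent.Lib.H6.U33M.Cert.cenL), checkWordM (w.map tabs) 0 540 = true := by
  intro w hw
  simp only [Cfsg.Agent.Lib.H6.U33M.Cert.exactL, Cfsg.Agent.Lib.H6.U33M.Cert.symL, Cfsg.Agent.Lib.H6.U33M.Cert.cenL, List.cons_append, List.nil_append, List.mem_cons, List.not_mem_nil, or_false] at hw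
  rcases hw with rfl | rfl | rfl | rfl | rfl | rfl
  · exact wchk33
  · exact wchk34
  · exact wchk35
  · exact wchk36
  · exact wchk37
  · exact wchk38

theorem symX_chk : checkWordM (List.map tabs [1, 1, 1, 4, 0, 2, 4, 3, 0, 2, 4, 3, 3]) 0 540 = true := wchk30

theorem symY_chk : checkWordM (List.map tabs [1, 1, 1, 4, 2, 0, 2, 1, 1, 4, 3, 5, 3]) 4 540 = true := wchk31

theorem letters_lt : ∀ w ∈ Cert.exactL ++ Cert.symL ++ Cert.cenL, ∀ x ∈ w, x < 6 := by
  decide

theorem letters_lt_extra : ∀ w ∈ Cfsg.Agent.Lib.H6.U33M.Cert.exactL ++ (Cfsg.Agent.Lib.H6.U33M.Cert.symL ++ Cfsg.Agent.Lib.H6.U33M.Cert.cenL), ∀ x ∈ w, x < 4 := by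
  decide

end Cfsg.Agent.Lib.H6.U43M.Model2
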